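import Groth.Agent.GaDual.WittExt.Fun
import Groth.Agent.GaDual.WittSubgroup
import Groth.Agent.GaDual.SymCocycle

/-!
Symmetric two-cocycles between Witt groups of the first kind and `W_1`.
-/

universe u

open CategoryTheory MonoidalCategory CartesianMonoidalCategory MonObj AlgebraicGeometry

namespace Groth.GaDual.WittExt

open Groth.GrpschAbsch WittOp WittEnd WittIsogeny

variable (p : ℕ) [hp : Fact p.Prime] {k : Type u} [Field k]

local notation "𝕊" => Spec (CommRingCat.of k)

section Basic

variable [CharP k p]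

/-- Padding by zeros. -/
noncomputable def pd {n : ℕ} (m : ℕ) (v : V p k n) : V p k m := val p (pad p n m) v

/-- The last components. -/
noncomputable def dr {n m : ℕ} (h : n ≤ m) (v : V p k m) : V p k n := val p (drop p h) v

omit [CharP k p] in
lemma coeff_pd {n m : ℕ} (v : V p k n) (j : Fin m) :
    (pd p m v).coeff j = if h : (j : ℕ) < n then v.coeff ⟨j, h⟩ else 0 := coeff_val_pad p v j

omit [CharP k p] in
lemma shift_dr {n m : ℕ} (h : n ≤ m) {v : V p k m} (hv : Zeros p (m - n) v) :
    WittGrp.shift p h (dr p h v) = v := shift_val_drop p h hv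

omit [CharP k p] in
lemma dr_shift {n m : ℕ} (h : n ≤ m) (v : V p k n) : dr p h (WittGrp.shift p h v) = v := drop_shift p h v

omit [CharP k p] in
lemma truncate_pd {n m : ℕ} (h : n ≤ m) (v : V p k n) : TruncatedWittVector.truncate h (pd p m v) = v :=
  truncate_val_pad p h v

omit [CharP k p] in
lemma shift_injective {n m : ℕ} (h : n ≤ m) : Function.Injective (WittGrp.shift (R := k) p h) :=
  Function.LeftInverse.injective (g := dr p h) (dr_shift p h)

omit [CharP k p] in
lemma shift_shift {a b c : ℕ} (h : a ≤ b) (h' : b ≤ c) (v : V p k a) :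
    WittGrp.shift p h' (WittGrp.shift p h v) = WittGrp.shift p (h.trans h') v := by
  ext l
  rw [WittGrp.coeff_shift, WittGrp.coeff_shift]
  by_cases h1 : c - a ≤ (l : ℕ)
  · rw [dif_pos h1, dif_pos (by omega), WittGrp.coeff_shift, dif_pos (by simp; omega)]
    congr 1
    ext; simp; omega
  · rw [dif_neg h1]
    split_ifs with h2
    · rw [WittGrp.coeff_shift, dif_neg (by simp; omega)]
    · rfl

omit [CharP k p] in
lemma zeros_of_truncate {n m : ℕ} (h : n ≤ m) {v : V p k m}
    (hv : TruncatedWittVector.truncate h v = 0) : Zeros p n v := fun i hi => by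
  have := congrArg (TruncatedWittVector.coeff ⟨i, hi⟩) hv
  rw [TruncatedWittVector.coeff_truncate, TruncatedWittVector.coeff_zero] at this
  exact this

omit [CharP k p] in
lemma truncate_shift_of_le {a b c : ℕ} (h : a ≤ c) (hb : b ≤ c) (hab : b ≤ c - a) (v : V p k a) :
    TruncatedWittVector.truncate hb (WittGrp.shift p h v) = 0 := by
  ext i
  rw [TruncatedWittVector.coeff_truncate, WittGrp.coeff_shift, dif_neg (by simp; omega),
    TruncatedWittVector.coeff_zero]

lemma pol_pd {n : ℕ} (m : ℕ) : Pol (Fun1 p k n) (pd p m : V p k n → V p k m) := pol_val _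

lemma pol_dr {n m : ℕ} (h : n ≤ m) : Pol (Fun1 p k m) (dr p h : V p k m → V p k n) := pol_val _

lemma pol_truncate {n m : ℕ} (h : n ≤ m) :
    Pol (Fun1 p k m) fun v : V p k m => TruncatedWittVector.truncate h v := by
  rw [← funext (val_R p h)]; exact pol_val _

lemma pol_shift {n m : ℕ} (h : n ≤ m) :
    Pol (Fun1 p k n) fun v : V p k n => WittGrp.shift p h v := by
  rw [← funext (val_V p h)]; exact pol_val _

/-- The coboundary. -/
def D {M N : Type u} [AddCommGroup M] [AddCommGroup N] (h : M → N) (a b : M) : N := h a + h b - h (a + b)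

/-- Symmetric two-cocycles. -/
def IsCoc {M N : Type u} [AddCommGroup M] [AddCommGroup N] (f : M → M → N) : Prop :=
  (∀ a b, f a b = f b a) ∧ ∀ a b c, f a (b + c) + f b c = f (a + b) c + f a b

section Coc

variable {M N P : Type u} [AddCommGroup M] [AddCommGroup N] [AddCommGroup P]

lemma isCoc_D (h : M → N) : IsCoc (D h) := by
  refine ⟨fun a b => by simp only [D, add_comm a b]; abel, fun a b c => ?_⟩
  simp only [D, add_assoc a b c]
  abel

lemma IsCoc.sub {f g : M → M → N} (hf : IsCoc f) (hg : IsCoc g) : IsCoc fun a b => f a b - g a b := by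
  refine ⟨fun a b => by simp only [hf.1 a b, hg.1 a b], fun a b c => ?_⟩
  simp only
  rw [eq_sub_of_add_eq (hf.2 a b c), eq_sub_of_add_eq (hg.2 a b c)]
  abel

lemma IsCoc.add {f g : M → M → N} (hf : IsCoc f) (hg : IsCoc g) : IsCoc fun a b => f a b + g a b := by
  refine ⟨fun a b => by simp only [hf.1 a b, hg.1 a b], fun a b c => ?_⟩
  simp only
  rw [eq_sub_of_add_eq (hf.2 a b c), eq_sub_of_add_eq (hg.2 a b c)]
  abel

lemma IsCoc.map {f : M → M → N} (hf : IsCoc f) (φ : N → P) (hφ : ∀ x y, φ (x + y) = φ x + φ y) :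
    IsCoc fun a b => φ (f a b) :=
  ⟨fun a b => by simp only [hf.1 a b], fun a b c => by simp only; rw [← hφ, hf.2, hφ]⟩

lemma IsCoc.comp {f : M → M → N} (hf : IsCoc f) (ψ : P → M) (hψ : ∀ x y, ψ (x + y) = ψ x + ψ y) :
    IsCoc fun a b => f (ψ a) (ψ b) :=
  ⟨fun a b => hf.1 _ _, fun a b c => by simp only; rw [hψ, hψ]; exact hf.2 _ _ _⟩

end Coc

/-- The cocycle of `W_{n+1}` over `W_n`. -/
noncomputable def cl (n : ℕ) (v w : V p k n) : V p k 1 :=
  dr p (Nat.le_add_left 1 n) (pd p (n + 1) v + pd p (n + 1) w - pd p (n + 1) (v + w))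

omit [CharP k p] in
lemma shift_cl (n : ℕ) (v w : V p k n) :
    WittGrp.shift p (Nat.le_add_left 1 n) (cl p n v w) =
      pd p (n + 1) v + pd p (n + 1) w - pd p (n + 1) (v + w) :=
  shift_dr p _ (zeros_of_truncate p (Nat.le_add_right n 1) (by
    rw [map_sub, map_add, truncate_pd, truncate_pd, truncate_pd, sub_self]))

omit [CharP k p] in
lemma isCoc_cl (n : ℕ) : IsCoc (cl p (k := k) n) := by
  have key : ∀ v w : V p k n, WittGrp.shift p (Nat.le_add_left 1 n) (cl p n v w) = D (pd p (n + 1)) v w :=
    shift_cl p n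
  refine ⟨fun a b => shift_injective p (Nat.le_add_left 1 n) ?_,
    fun a b c => shift_injective p (Nat.le_add_left 1 n) ?_⟩
  · rw [key, key]; exact (isCoc_D _).1 a b
  · rw [map_add, map_add, key, key, key, key]; exact (isCoc_D _).2 a b c

/-- The cocycle of `W_{n+1}` over `W_1`. -/
noncomputable def tl (n : ℕ) (a b : V p k 1) : V p k n :=
  dr p (Nat.le_add_right n 1) (pd p (n + 1) a + pd p (n + 1) b - pd p (n + 1) (a + b))

omit [CharP k p] in
lemma shift_tl (n : ℕ) (a b : V p k 1) :
    WittGrp.shift p (Nat.le_add_right n 1) (tl p n a b) =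
      pd p (n + 1) a + pd p (n + 1) b - pd p (n + 1) (a + b) :=
  shift_dr p _ (by
    rw [Nat.add_sub_cancel_left]
    exact zeros_of_truncate p (Nat.le_add_left 1 n) (by
      rw [map_sub, map_add, truncate_pd, truncate_pd, truncate_pd, sub_self]))

omit [CharP k p] in
lemma isCoc_tl (n : ℕ) : IsCoc (tl p (k := k) n) := by
  have key : ∀ v w : V p k 1, WittGrp.shift p (Nat.le_add_right n 1) (tl p n v w) = D (pd p (n + 1)) v w :=
    shift_tl p n
  refine ⟨fun a b => shift_injective p (Nat.le_add_right n 1) ?_,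
    fun a b c => shift_injective p (Nat.le_add_right n 1) ?_⟩
  · rw [key, key]; exact (isCoc_D _).1 a b
  · rw [map_add, map_add, key, key, key, key]; exact (isCoc_D _).2 a b c

omit [CharP k p] in
lemma tl_one : tl p (k := k) 1 = cl p 1 := rfl

lemma pol_D {n m : ℕ} {h : V p k n → V p k m} (hh : Pol (Fun1 p k n) h) :
    Pol (Fun2 p k n) fun x => D h x.1 x.2 :=
  (((pol_fst n).comp hh).add ((pol_snd n).comp hh)).sub (((pol_fst n).add (pol_snd n)).comp hh)

lemma pol_cl (n : ℕ) : Pol (Fun2 p k n) fun x => cl p n x.1 x.2 :=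
  ((((pol_fst n).comp (pol_pd p _)).add ((pol_snd n).comp (pol_pd p _))).sub
    (((pol_fst n).add (pol_snd n)).comp (pol_pd p _))).comp (pol_dr p _)

lemma pol_tl (n : ℕ) : Pol (Fun2 p k 1) fun x => tl p n x.1 x.2 :=
  ((((pol_fst 1).comp (pol_pd p _)).add ((pol_snd 1).comp (pol_pd p _))).sub
    (((pol_fst 1).add (pol_snd 1)).comp (pol_pd p _))).comp (pol_dr p _)

/-- The additive endomorphism with coefficient list `l`. -/
noncomputable def E (l : List k) (x : V p k 1) : V p k 1 := opT p (RingHom.id k) 1 [l] x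

lemma E_add (l : List k) (x y : V p k 1) : E p l (x + y) = E p l x + E p l y :=
  opT_add p _ 1 [l] x y

lemma pol_E (l : List k) : Pol (Fun1 p k 1) (E p l) := by
  have e : E p l = val p (opHom p 1 [l]) := funext fun v => (val_opHom p _ v).symm
  rw [e]; exact pol_val _

omit [CharP k p] in
lemma ext_one {x y : V p k 1} (h : x.coeff ⟨0, one_pos⟩ = y.coeff ⟨0, one_pos⟩) : x = y :=
  TruncatedWittVector.ext fun i => by
    obtain rfl : i = ⟨0, one_pos⟩ := Fin.ext (Nat.lt_one_iff.mp i.2)
    exact h

omit [CharP k p] in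
lemma single_add (a b : k) : single p 1 (a + b) = single p 1 a + single p 1 b :=
  ext_one p (by rw [coeff_single, coeff_add_zero, coeff_single, coeff_single])

omit [CharP k p] in
lemma single_coeff (x : V p k 1) : single p 1 (x.coeff ⟨0, one_pos⟩) = x :=
  ext_one p (coeff_single p one_pos _)

lemma E_single (l : List k) (a : k) : E p l (single p 1 a) = single p 1 (evalList p l a) :=
  ext_one p (by rw [E, coeff_zero_opT, coeff_single, coeff_single]; rfl)

/-- The second component of a sum of Witt vectors. -/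
lemma coeff_one_add {B : Type u} [CommRing B] (x y : WittVector p B) :
    (x + y).coeff 1 = x.coeff 1 + y.coeff 1 - Cocycle.S p (x.coeff 0) (y.coeff 0) := by
  let R := MvPolynomial (Fin 2 × ℕ) ℤ
  let X₀ : WittVector p R := WittVector.mk p fun i => MvPolynomial.X (0, i)
  let Y₀ : WittVector p R := WittVector.mk p fun i => MvPolynomial.X (1, i)
  have key : (X₀ + Y₀).coeff 1 = X₀.coeff 1 + Y₀.coeff 1 - Cocycle.S p (X₀.coeff 0) (Y₀.coeff 0) := by
    have hg := map_add (WittVector.ghostComponent (p := p) (R := R) 1) X₀ Y₀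
    have h1 : ∀ z : WittVector p R,
        WittVector.ghostComponent 1 z = (p : R) * z.coeff 1 + z.coeff 0 ^ p := fun z => by
      simp [WittVector.ghostComponent_apply, wittPolynomial_one]
    rw [h1, h1, h1, WittVector.add_coeff_zero] at hg
    refine mul_left_cancel₀ (Nat.cast_ne_zero.mpr hp.out.ne_zero : (p : R) ≠ 0) ?_
    rw [mul_sub, mul_add, Cocycle.natCast_mul_S]
    linear_combination hg
  let f : R →+* B := MvPolynomial.eval₂Hom (Int.castRingHom B) fun ji => (![x, y] ji.1).coeff ji.2
  have hX : WittVector.map f X₀ = x := WittVector.ext fun i => MvPolynomial.eval₂Hom_X' _ _ _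
  have hY : WittVector.map f Y₀ = y := WittVector.ext fun i => MvPolynomial.eval₂Hom_X' _ _ _
  have := congrArg f key
  rw [← WittVector.map_coeff, map_add (WittVector.map f), hX, hY, map_sub, map_add, Cocycle.map_S,
    ← WittVector.map_coeff, ← WittVector.map_coeff, ← WittVector.map_coeff, ← WittVector.map_coeff,
    hX, hY] at this
  exact this

/-- The cocycle of `W_2`. -/
lemma cl_single (a b : k) : cl p 1 (single p 1 a) (single p 1 b) = single p 1 (-Cocycle.S p a b) := by
  have hS0 : ∀ u : k, Cocycle.S p u 0 = 0 := fun u => Finset.sum_eq_zero fun j hj => by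
    rw [Finset.mem_Ioo] at hj
    rw [zero_pow (by omega), mul_zero]
  have hpd : ∀ c : k, pd p 2 (single p 1 c) = WittVector.truncate 2 (WittVector.teichmuller p c) := by
    intro c
    ext i
    rw [coeff_pd, WittVector.coeff_truncate]
    obtain ⟨_ | i, hi⟩ := i
    · rw [dif_pos one_pos]; exact (coeff_single p one_pos c).trans (WittVector.teichmuller_coeff_zero p c).symm
    · rw [dif_neg (by simp), WittVector.teichmuller_coeff_pos p _ _ i.succ_pos]
  refine shift_injective p (Nat.le_add_left 1 1) ?_
  rw [shift_cl, ← single_add, sub_eq_iff_eq_add, hpd, hpd, hpd]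
  have hsh : WittGrp.shift p (Nat.le_add_left 1 1) (single p 1 (-Cocycle.S p a b)) =
      WittVector.truncate 2 (WittVector.verschiebung (WittVector.teichmuller p (-Cocycle.S p a b))) := by
    ext i
    rw [WittGrp.coeff_shift, WittVector.coeff_truncate]
    obtain ⟨_ | i, hi⟩ := i
    · rw [dif_neg (by simp), WittVector.verschiebung_coeff_zero]
    · obtain rfl : i = 0 := by omega
      rw [dif_pos (by simp), WittVector.verschiebung_coeff_succ, WittVector.teichmuller_coeff_zero]
      exact coeff_single p one_pos _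
  rw [hsh, ← map_add (WittVector.truncate 2), ← map_add (WittVector.truncate 2)]
  ext i
  rw [WittVector.coeff_truncate, WittVector.coeff_truncate]
  obtain ⟨_ | i, hi⟩ := i
  · simp [WittVector.add_coeff_zero]
  · obtain rfl : i = 0 := by omega
    rw [coeff_one_add, coeff_one_add, WittVector.teichmuller_coeff_zero, WittVector.teichmuller_coeff_zero,
      WittVector.teichmuller_coeff_zero, WittVector.teichmuller_coeff_pos p _ _ one_pos,
      WittVector.teichmuller_coeff_pos p _ _ one_pos, WittVector.teichmuller_coeff_pos p _ _ one_pos,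
      WittVector.verschiebung_coeff_succ, WittVector.verschiebung_coeff_zero,
      WittVector.teichmuller_coeff_zero, Cocycle.S_comm p _ (a + b), hS0]
    ring

end Basic

variable [CharP k p] [IsAlgClosed k]

/-- Symmetric polynomial cocycles of the additive group. -/
lemma classify_one {f : V p k 1 → V p k 1 → V p k 1} (hf : Pol (Fun2 p k 1) fun x => f x.1 x.2)
    (hc : IsCoc f) : ∃ (h : V p k 1 → V p k 1) (l : List k), Pol (Fun1 p k 1) h ∧
      ∀ a b, f a b = D h a b + E p l (cl p 1 a b) := by
  have hm := hf ⟨0, one_pos⟩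
  rw [Fun2, Algebra.adjoin_range_eq_range_aeval] at hm
  obtain ⟨P, hP⟩ := hm
  let F : MvPolynomial (Fin 2) k := MvPolynomial.aeval (fun ji => MvPolynomial.X ji.1) P
  let g : k → k → k := fun a b => (f (single p 1 a) (single p 1 b)).coeff ⟨0, one_pos⟩
  have hF : ∀ x : Fin 2 → k, MvPolynomial.eval x F = g (x 0) (x 1) := by
    intro x
    have e := congrFun hP (single p 1 (x 0), single p 1 (x 1))
    refine Eq.trans ?_ e
    rw [← MvPolynomial.aeval_eq_eval]
    refine (MvPolynomial.comp_aeval_apply _ (MvPolynomial.aeval x) P).trans ?_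
    refine Eq.trans ?_ (MvPolynomial.comp_aeval_apply _
      (Pi.evalAlgHom k (fun _ : V p k 1 × V p k 1 => k) (single p 1 (x 0), single p 1 (x 1))) P).symm
    congr 2
    funext ⟨a, b⟩
    obtain rfl : b = ⟨0, one_pos⟩ := Fin.ext (Nat.lt_one_iff.mp b.2)
    fin_cases a <;> exact (MvPolynomial.aeval_X x _).trans (coeff_single p one_pos _).symm
  have hev : ∀ {m : ℕ} (x : Fin m → k) (v : Fin 2 → MvPolynomial (Fin m) k),
      MvPolynomial.eval x (MvPolynomial.aeval v F) =
        g (MvPolynomial.eval x (v 0)) (MvPolynomial.eval x (v 1)) := by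
    intro m x v
    rw [← hF fun i => MvPolynomial.eval x (v i), ← MvPolynomial.aeval_eq_eval,
      ← MvPolynomial.aeval_eq_eval]
    exact MvPolynomial.comp_aeval_apply _ (MvPolynomial.aeval x) F
  have hgadd : ∀ a b c, g a (b + c) + g b c = g (a + b) c + g a b := fun a b c => by
    simp only [g, single_add, ← coeff_add_zero, hc.2]
  have hSC : Cocycle.IsSC F := by
    refine ⟨MvPolynomial.funext fun x => ?_, MvPolynomial.funext fun x => ?_⟩
    · rw [hev, hF]; simp [g, hc.1]
    · simp only [Cocycle.delta, map_sub, map_add, map_zero, hev]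
      simp [hgadd]
  obtain ⟨G, N, r, hG⟩ := Cocycle.exists_decomp p hSC
  have hcoord : Pol (Fun1 p k 1) fun x : V p k 1 => single p 1 (-G.eval (x.coeff ⟨0, one_pos⟩)) := by
    intro j
    obtain rfl : j = ⟨0, one_pos⟩ := Fin.ext (Nat.lt_one_iff.mp j.2)
    simp only [coeff_single]
    have e : (fun x : V p k 1 => -G.eval (x.coeff ⟨0, one_pos⟩)) =
        -Polynomial.aeval (fun x : V p k 1 => x.coeff ⟨0, one_pos⟩) G := by
      funext x
      rw [Pi.neg_apply]
      refine congrArg Neg.neg ?_
      rw [← Polynomial.coe_aeval_eq_eval]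
      exact (Polynomial.aeval_algHom_apply (Pi.evalAlgHom k (fun _ : V p k 1 => k) x)
        (fun y : V p k 1 => y.coeff ⟨0, one_pos⟩) G)
    rw [e]
    exact Subalgebra.neg_mem _ (Algebra.adjoin_le (Set.singleton_subset_iff.2 (Pol.coord_mem _))
      (Polynomial.aeval_mem_adjoin_singleton _ _))
  let l : List k := List.ofFn fun i : Fin N => -r i
  refine ⟨_, l, hcoord, fun a b => ?_⟩
  rw [← single_coeff p a, ← single_coeff p b, cl_single, E_single]
  generalize a.coeff ⟨0, one_pos⟩ = s
  generalize b.coeff ⟨0, one_pos⟩ = t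
  refine ext_one p ?_
  rw [D, ← single_add, coeff_add_zero, coeff_single, coeff_zero_sub, coeff_add_zero,
    coeff_single, coeff_single, coeff_single, coeff_single, coeff_single]
  have := hF ![s, t]
  rw [hG] at this
  refine Eq.trans this.symm ?_
  have he : evalList p l (-Cocycle.S p s t) = -evalList p l (Cocycle.S p s t) := by
    rw [evalList_ofFn, evalList_ofFn, ← Finset.sum_neg_distrib]
    refine Finset.sum_congr rfl fun i _ => ?_
    rw [← mul_neg]
    congr 1
    exact map_neg (iterateFrobenius k p i) _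
  rw [he, evalList_ofFn]
  simp only [map_add, Cocycle.cobdry, map_sub, map_sum, map_mul, MvPolynomial.eval_C]
  have hS : ∀ i, MvPolynomial.eval ![s, t] (Cocycle.SPow p i : MvPolynomial (Fin 2) k) =
      Cocycle.S p s t ^ p ^ i := fun i => by
    rw [Cocycle.SPow, Cocycle.map_S, map_pow, map_pow, MvPolynomial.eval_X, MvPolynomial.eval_X,
      ← iterateFrobenius_def (R := k) p i (Cocycle.S p s t), Cocycle.map_S, iterateFrobenius_def,
      iterateFrobenius_def]
    rfl
  simp only [hS, ← MvPolynomial.aeval_eq_eval, ← Polynomial.aeval_algHom_apply, map_add,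
    MvPolynomial.aeval_X, Matrix.cons_val_zero, Matrix.cons_val_one, Polynomial.coe_aeval_eq_eval,
    neg_mul, Finset.sum_neg_distrib, neg_neg,
    Fin.sum_univ_eq_sum_range (fun i => r i * Cocycle.S p s t ^ p ^ i)]
  ring

/-- **Extensions of `W_n` by `W_1`.** -/
theorem classify_left (n : ℕ) : ∀ (f : V p k (n + 1) → V p k (n + 1) → V p k 1),
    (Pol (Fun2 p k (n + 1)) fun x => f x.1 x.2) → IsCoc f →
    ∃ (h : V p k (n + 1) → V p k 1) (l : List k), Pol (Fun1 p k (n + 1)) h ∧
      ∀ a b, f a b = D h a b + E p l (cl p (n + 1) a b) := by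
  induction n with
  | zero => exact fun f hf hc => classify_one p hf hc
  | succ n ih =>
    intro f hf hc
    let N := n + 1
    have hT : N ≤ N + 1 := Nat.le_succ N
    have h1 : 1 ≤ N + 1 := Nat.le_add_left 1 N
    have h12 : 2 ≤ N + 2 := Nat.le_add_left 2 N
    let j1 : V p k 1 → V p k (N + 1) := fun a => WittGrp.shift p h1 a
    have hj : Pol (Fun1 p k 1) j1 := pol_shift p _
    have hja : ∀ a b, j1 (a + b) = j1 a + j1 b := map_add _
    obtain ⟨h₀, l₀, hh₀, he₀⟩ := classify_one p (f := fun a b => f (j1 a) (j1 b))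
      (((pol_fst 1).comp hj).comp₂ ((pol_snd 1).comp hj) hf) (hc.comp j1 hja)
    have hclj : ∀ a b, cl p (N + 1) (j1 a) (j1 b) = cl p 1 a b := fun a b => by
      refine shift_injective p (Nat.le_add_left 1 (N + 1)) ?_
      have hpd : ∀ c : V p k 1, pd p (N + 2) (j1 c) = WittGrp.shift p h12 (pd p 2 c) := fun c => by
        ext i
        simp only [coeff_pd, j1, WittGrp.coeff_shift]
        by_cases hi : (i : ℕ) < N + 1
        · rw [dif_pos hi]
          by_cases hi2 : N ≤ (i : ℕ)
          · rw [dif_pos (by omega), dif_pos (by omega), dif_pos (by omega)]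
            congr 1
          · rw [dif_neg (by omega), dif_neg (by omega)]
        · rw [dif_neg hi, dif_pos (by omega), dif_neg (by omega)]
      rw [shift_cl, ← hja, hpd, hpd, hpd, ← map_add, ← map_sub, ← shift_cl, shift_shift]
    let h₀' : V p k (N + 1) → V p k 1 := fun v => h₀ (dr p h1 v)
    let f₂ := fun a b => f a b - E p l₀ (cl p (N + 1) a b) - D h₀' a b
    have hf₂ : IsCoc f₂ := (hc.sub ((isCoc_cl p _).map _ (E_add p l₀))).sub (isCoc_D _)
    have hf₂' : Pol (Fun2 p k (N + 1)) fun x => f₂ x.1 x.2 :=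
      (hf.sub ((pol_cl p _).comp (pol_E p _))).sub (pol_D p ((pol_dr p _).comp hh₀))
    have hz : ∀ a b, f₂ (j1 a) (j1 b) = 0 := fun a b => by
      simp only [f₂, h₀', D, hclj, ← hja]
      simp only [j1, dr_shift]
      rw [he₀ a b]
      simp only [D]
      abel
    let T : V p k (N + 1) → V p k N := fun v => TruncatedWittVector.truncate hT v
    let r : V p k (N + 1) → V p k (N + 1) := fun v => pd p (N + 1) (T v)
    let d : V p k (N + 1) → V p k 1 := fun v => dr p h1 (v - r v)
    have hd : ∀ v, j1 (d v) = v - r v := fun v => shift_dr p h1 (by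
      rw [Nat.add_sub_cancel]
      exact zeros_of_truncate p hT (by rw [map_sub, truncate_pd, sub_self]))
    have hTj : ∀ v a, T (v + j1 a) = T v := fun v a => by
      simp only [T, j1, map_add, truncate_shift_of_le p h1 hT (by omega), add_zero]
    let h := fun v => f₂ (r v) (j1 (d v))
    have hpr : Pol (Fun1 p k (N + 1)) r := (pol_truncate p hT).comp (pol_pd p _)
    have hpd' : Pol (Fun1 p k (N + 1)) d := ((pol_id (N + 1)).sub hpr).comp (pol_dr p h1)
    have hph : Pol (Fun1 p k (N + 1)) h := hpr.comp₂ (hpd'.comp hj) hf₂'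
    let g := fun a b => f₂ a b + D h a b
    have hg : IsCoc g := hf₂.add (isCoc_D _)
    have hinv : ∀ v w a, g (v + j1 a) w = g v w := by
      intro v w a
      have hh : ∀ u, h (u + j1 a) = f₂ u (j1 a) + h u := by
        intro u
        have er : r (u + j1 a) = r u := by simp only [r, hTj]
        have ed : j1 (d (u + j1 a)) = j1 (d u) + j1 a := by rw [hd, hd, er]; abel
        have := hf₂.2 (r u) (j1 (d u)) (j1 a)
        rw [hz, add_zero, ← ed, show r u + j1 (d u) = u by rw [hd, add_sub_cancel]] at this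
        simp only [h, er]
        exact this
      have := hf₂.2 w v (j1 a)
      simp only [g, D, hh, add_right_comm v (j1 a) w]
      rw [hf₂.1 (v + j1 a) w, hf₂.1 v w, eq_sub_of_add_eq this, add_comm w v]
      abel
    have hgT : ∀ v w v' w', T v = T v' → T w = T w' → g v w = g v' w' := by
      have h0 : ∀ v w, g v w = g (r v) w := fun v w => by
        conv_lhs => rw [← add_sub_cancel (r v) v, ← hd, hinv]
      have h0' : ∀ v w, g v w = g (r v) (r w) := fun v w => by rw [h0, hg.1, h0, hg.1]
      intro v w v' w' e e'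
      rw [h0' v w, h0' v' w']
      simp only [r, e, e']
    let G := fun a b : V p k N => g (pd p (N + 1) a) (pd p (N + 1) b)
    have hG : IsCoc G := by
      refine ⟨fun a b => hg.1 _ _, fun a b c => ?_⟩
      have e : ∀ x y : V p k N, T (pd p (N + 1) (x + y)) = T (pd p (N + 1) x + pd p (N + 1) y) := fun x y => by
        simp only [T, map_add, truncate_pd]
      simp only [G]
      rw [hgT (pd p (N + 1) a) (pd p (N + 1) (b + c)) _ _ rfl (e b c),
        hgT (pd p (N + 1) (a + b)) (pd p (N + 1) c) _ _ (e a b) rfl]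
      exact hg.2 _ _ _
    obtain ⟨hG₀, lG, hhG, heG⟩ := ih G
      (Pol.comp₂ (H := g) ((pol_fst N).comp (pol_pd p (N + 1))) ((pol_snd N).comp (pol_pd p (N + 1)))
        (hf₂'.add (pol_D p hph))) hG
    let h' := fun v => h₀' v - h v + hG₀ (T v) - E p lG (d v)
    refine ⟨h', l₀, (((((pol_dr p _).comp hh₀).sub hph).add ((pol_truncate p hT).comp hhG)).sub
      (hpd'.comp (pol_E p lG))), fun v w => ?_⟩
    have e1 : g v w = G (T v) (T w) := hgT v w _ _ (truncate_pd p hT _).symm (truncate_pd p hT _).symm
    rw [heG] at e1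
    have hcl : cl p N (T v) (T w) = d (v + w) - d v - d w := by
      refine shift_injective p (Nat.le_add_left 1 N) ?_
      rw [map_sub, map_sub, shift_cl]
      show _ = j1 (d (v + w)) - j1 (d v) - j1 (d w)
      rw [hd, hd, hd]
      simp only [r, T, map_add]
      abel
    have hneg : ∀ x y, E p lG (x - y) = E p lG x - E p lG y := fun x y => by
      rw [eq_sub_iff_add_eq, ← E_add, sub_add_cancel]
    have e2 : D hG₀ (T v) (T w) = D (fun u => hG₀ (T u)) v w := by simp only [D, T, map_add]
    rw [e2, hcl, hneg, hneg] at e1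
    simp only [g, f₂, h', D] at e1 ⊢
    linear_combination (norm := abel) e1

end Groth.GaDual.WittExt
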