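import Groth.Agent.GaDual.WittExt.Class

/-!
Symmetric two-cocycles of `W_1` with values in `W_n`.
-/

universe u

open CategoryTheory MonoidalCategory CartesianMonoidalCategory MonObj AlgebraicGeometry

namespace Groth.GaDual.WittExt

open Groth.GrpschAbsch WittOp WittEnd WittIsogeny

variable (p : ℕ) [hp : Fact p.Prime] {k : Type u} [Field k] [CharP k p] [IsAlgClosed k]

omit [IsAlgClosed k] in
lemma cl_E_add (l l' : List k) (a b : V p k 1) :
    cl p 1 (E p l a + E p l' a) (E p l b + E p l' b) = cl p 1 (E p l a) (E p l b) + cl p 1 (E p l' a) (E p l' b) -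
      D (fun x => cl p 1 (E p l x) (E p l' x)) a b := by
  refine shift_injective p (Nat.le_add_left 1 1) ?_
  simp only [D, map_add, map_sub, shift_cl]
  rw [add_add_add_comm (E p l a) (E p l' a), E_add p l a b, E_add p l' a b]
  abel

omit [IsAlgClosed k] in
lemma evalList_add (l l' : List k) : ∃ l'' : List k, ∀ a, evalList p l'' a = evalList p l a + evalList p l' a := by
  induction l generalizing l' with
  | nil => exact ⟨l', fun a => by simp [evalList]⟩
  | cons c l ih =>
    cases l' with
    | nil => exact ⟨c :: l, fun a => by simp [evalList]⟩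
    | cons c' l' =>
      obtain ⟨l'', h⟩ := ih l'
      refine ⟨(c + c') :: l'', fun a => ?_⟩
      simp only [evalList, h]
      ring

/-- The pushed forward cocycle of `W_2` is a pull-back of it. -/
lemma exists_pullback (l : List k) : ∃ (χ : List k) (h : V p k 1 → V p k 1), Pol (Fun1 p k 1) h ∧
    ∀ a b, E p l (cl p 1 a b) = cl p 1 (E p χ a) (E p χ b) + D h a b := by
  -- one monomial
  have mono : ∀ (r : k) (i : ℕ), ∃ s : List k, ∀ a b, cl p 1 (E p s a) (E p s b) =
      single p 1 (r * (cl p 1 a b).coeff ⟨0, one_pos⟩ ^ p ^ i) := by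
    intro r i
    obtain ⟨s, hs⟩ := IsAlgClosed.exists_pow_nat_eq r hp.out.pos
    refine ⟨List.ofFn fun j : Fin (i + 1) => if (j : ℕ) = i then s else 0, fun a b => ?_⟩
    rw [← single_coeff p a, ← single_coeff p b, E_single, E_single, cl_single, cl_single, coeff_single]
    have he : ∀ x : k, evalList p (List.ofFn fun j : Fin (i + 1) => if (j : ℕ) = i then s else 0) x =
        s * x ^ p ^ i := fun x => by
      rw [evalList_ofFn, Finset.sum_eq_single ⟨i, Nat.lt_succ_self i⟩]
      · simp
      · intro j _ hj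
        rw [if_neg (fun hh => hj (Fin.ext hh)), zero_mul]
      · simp
    rw [he, he, SymCocycle.S_smul, hs, ← iterateFrobenius_def (R := k) p i (-_),
      map_neg, mul_neg]
    congr 2
    rw [Cocycle.map_S, iterateFrobenius_def, iterateFrobenius_def]
  have hfun : ∀ (N : ℕ) (r : ℕ → k), ∃ (χ : List k) (h : V p k 1 → V p k 1), Pol (Fun1 p k 1) h ∧
      ∀ a b, single p 1 (∑ i ∈ Finset.range N, r i * (cl p 1 a b).coeff ⟨0, one_pos⟩ ^ p ^ i) =
        cl p 1 (E p χ a) (E p χ b) + D h a b := by
    intro N r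
    induction N with
    | zero =>
      refine ⟨[], fun _ => 0, pol_const 0, fun a b => ?_⟩
      have h0 : ∀ x : V p k 1, E p [] x = single p 1 0 := fun x => ext_one p (by
        rw [E, coeff_zero_opT, coeff_single]; rfl)
      have hS : Cocycle.S p (0 : k) 0 = 0 := Finset.sum_eq_zero fun j hj => by
        rw [Finset.mem_Ioo] at hj
        rw [zero_pow (show p - j ≠ 0 by omega), mul_zero]
      simp only [Finset.range_zero, Finset.sum_empty, h0, cl_single, hS, D, neg_zero]
      abel
    | succ N ih =>
      obtain ⟨χ, h, hh, he⟩ := ih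
      obtain ⟨s, hs⟩ := mono (r N) N
      obtain ⟨χ', hχ⟩ := evalList_add p χ s
      have hE : ∀ x, E p χ' x = E p χ x + E p s x := fun x => ext_one p (by
        rw [coeff_add_zero, E, E, E, coeff_zero_opT, coeff_zero_opT, coeff_zero_opT]
        exact hχ _)
      have hEp : ∀ l' : List k, Pol (Fun1 p k 1) (E p l') := fun l' => pol_E p l'
      refine ⟨χ', fun x => h x + cl p 1 (E p χ x) (E p s x),
        hh.add ((hEp χ).comp₂ (hEp s) (pol_cl p 1)), fun a b => ?_⟩
      rw [Finset.sum_range_succ, single_add, he, ← hs, hE, hE, cl_E_add]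
      simp only [D]
      abel
  obtain ⟨χ, h, hh, he⟩ := hfun l.length fun i => if hi : i < l.length then l.get ⟨i, hi⟩ else 0
  refine ⟨χ, h, hh, fun a b => ?_⟩
  rw [← he]
  refine ext_one p ?_
  rw [E, coeff_zero_opT, coeff_single]
  show evalList p l _ = _
  conv_lhs => rw [← List.ofFn_get l, evalList_ofFn]
  rw [Finset.sum_range]
  exact Finset.sum_congr rfl fun i _ => by rw [dif_pos i.2]

/-- **Extensions of `W_1` by `W_n`.** -/
theorem classify_right (n : ℕ) : ∀ (f : V p k 1 → V p k 1 → V p k (n + 1)),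
    (Pol (Fun2 p k 1) fun x => f x.1 x.2) → IsCoc f →
    ∃ (H : V p k 1 → V p k (n + 1)) (χ : List k), Pol (Fun1 p k 1) H ∧
      ∀ a b, f a b = D H a b + tl p (n + 1) (E p χ a) (E p χ b) := by
  induction n with
  | zero =>
    intro f hf hc
    obtain ⟨h, l, hh, he⟩ := classify_one p hf hc
    obtain ⟨χ, h', hh', he'⟩ := exists_pullback p l
    refine ⟨fun x => h x + h' x, χ, hh.add hh', fun a b => ?_⟩
    show _ = _ + cl p 1 _ _
    rw [he, he']
    simp only [D]
    abel
  | succ n ih =>
    intro f hf hc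
    let N := n + 1
    have hT : N ≤ N + 1 := Nat.le_succ N
    have h1 : 1 ≤ N + 1 := Nat.le_add_left 1 N
    let T : V p k (N + 1) → V p k N := fun v => TruncatedWittVector.truncate hT v
    have hTadd : ∀ x y, T (x + y) = T x + T y := map_add _
    obtain ⟨H, χ, hH, he⟩ := ih (fun a b => T (f a b)) (hf.comp (pol_truncate p hT)) (hc.map T hTadd)
    have hTtl : ∀ x y, T (tl p (N + 1) x y) = tl p N x y := by
      intro x y
      refine shift_injective p (Nat.le_add_right N 1) ?_
      have hTp : ∀ z : V p k 1, TruncatedWittVector.truncate (Nat.le_succ (N + 1)) (pd p (N + 2) z) =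
          pd p (N + 1) z := fun z => by
        ext i
        rw [TruncatedWittVector.coeff_truncate, coeff_pd, coeff_pd]
        rfl
      rw [shift_tl, ← hTp, ← hTp, ← hTp, ← map_add, ← map_sub, ← shift_tl]
      ext i
      simp only [T, TruncatedWittVector.coeff_truncate, WittGrp.coeff_shift]
      by_cases hi : 1 ≤ (i : ℕ)
      · rw [dif_pos (by omega), dif_pos (by simp; omega)]
        congr 1
        ext; simp
      · rw [dif_neg (by omega), dif_neg (by simp only [Fin.val_castLE, Nat.succ_eq_add_one]; omega)]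
    let H₁ : V p k 1 → V p k (N + 1) := fun a => pd p (N + 1) (H a)
    let f₂ := fun a b => f a b - D H₁ a b - tl p (N + 1) (E p χ a) (E p χ b)
    have hf₂ : IsCoc f₂ := (hc.sub (isCoc_D _)).sub ((isCoc_tl p _).comp _ (E_add p χ))
    have hf₂' : Pol (Fun2 p k 1) fun x => f₂ x.1 x.2 :=
      (hf.sub (pol_D p (hH.comp (pol_pd p _)))).sub
        (Pol.comp₂ (H := tl p (N + 1)) ((pol_fst 1).comp (pol_E p χ)) ((pol_snd 1).comp (pol_E p χ)) (pol_tl p _))
    have hTf : ∀ a b, T (f₂ a b) = 0 := fun a b => by
      simp only [f₂, T, map_sub, H₁, D, map_add, truncate_pd]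
      rw [show TruncatedWittVector.truncate hT (tl p (N + 1) (E p χ a) (E p χ b)) = _ from hTtl _ _]
      have := he a b
      simp only [T, D] at this
      rw [this]
      abel
    let g := fun a b => dr p h1 (f₂ a b)
    have hg : ∀ a b, WittGrp.shift p h1 (g a b) = f₂ a b := fun a b => shift_dr p h1 (by
      rw [Nat.add_sub_cancel]
      exact zeros_of_truncate p hT (hTf a b))
    have hgc : IsCoc g := by
      refine ⟨fun a b => by simp only [g, hf₂.1 a b], fun a b c => shift_injective p h1 ?_⟩
      rw [map_add, map_add, hg, hg, hg, hg]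
      exact hf₂.2 a b c
    have hgp : Pol (Fun2 p k 1) fun x => g x.1 x.2 := Pol.comp hf₂' (pol_dr p h1)
    obtain ⟨h, l, hh, hel⟩ := classify_one p (f := g) hgp hgc
    obtain ⟨χ', h', hh', he'⟩ := exists_pullback p l
    have h2 : 2 ≤ N + 1 := Nat.succ_le_succ (Nat.succ_le_succ (Nat.zero_le n))
    let K : V p k 1 → V p k (N + 1) := fun x =>
      WittGrp.shift p h1 (h x + h' x) + WittGrp.shift p h2 (pd p 2 (E p χ' x))
    refine ⟨fun x => H₁ x + K x, χ,
      (hH.comp (pol_pd p _)).add (((hh.add hh').comp (pol_shift p h1)).add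
        (((pol_E p χ').comp (pol_pd p 2)).comp (pol_shift p h2))), fun a b => ?_⟩
    have e1 := hg a b
    rw [hel, he', map_add, map_add,
      ← shift_shift p (Nat.le_add_left 1 1) h2 (cl p 1 (E p χ' a) (E p χ' b)), shift_cl,
      ← E_add p χ' a b] at e1
    simp only [D, map_add, map_sub, f₂, K] at e1 ⊢
    linear_combination (norm := abel) e1.symm

end Groth.GaDual.WittExt
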