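import Groth.Agent.GaDual.WittLift
import Mathlib.RingTheory.Adjoin.Polynomial.Basic
import Mathlib.RingTheory.MvPolynomial.Basic

/-!
Polynomial functions on the rational points of Witt groups.
-/

universe u

open CategoryTheory MonoidalCategory CartesianMonoidalCategory MonObj AlgebraicGeometry MvPolynomial

namespace Groth.GaDual.WittExt

open Groth.GrpschAbsch WittOp WittEnd

variable (p : ℕ) [hp : Fact p.Prime] (k : Type u) [Field k]

/-- Rational points of `W_n`. -/
abbrev V (n : ℕ) := TruncatedWittVector p n k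

/-- Polynomial functions on `V n`. -/
noncomputable abbrev Fun1 (n : ℕ) : Subalgebra k (V p k n → k) :=
  Algebra.adjoin k (Set.range fun i : Fin n => fun v : V p k n => v.coeff i)

/-- Polynomial functions on `V n × V n`. -/
noncomputable abbrev Fun2 (n : ℕ) : Subalgebra k (V p k n × V p k n → k) :=
  Algebra.adjoin k (Set.range fun ji : Fin 2 × Fin n => fun x : V p k n × V p k n =>
    (![x.1, x.2] ji.1).coeff ji.2)

variable {p k} {X : Type u} {A : Subalgebra k (X → k)}

/-- A vector valued function all of whose components lie in `A`. -/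
def Pol (A : Subalgebra k (X → k)) {m : ℕ} (F : X → V p k m) : Prop :=
  ∀ j, (fun x => (F x).coeff j) ∈ A

lemma Pol.coord_mem {n : ℕ} (i : Fin n) : (fun v : V p k n => v.coeff i) ∈ Fun1 p k n :=
  Algebra.subset_adjoin ⟨i, rfl⟩

lemma pol_id (n : ℕ) : Pol (Fun1 p k n) (id : V p k n → V p k n) := Pol.coord_mem

lemma pol_fst (n : ℕ) : Pol (Fun2 p k n) (Prod.fst : V p k n × V p k n → V p k n) :=
  fun j => Algebra.subset_adjoin ⟨(0, j), rfl⟩

lemma pol_snd (n : ℕ) : Pol (Fun2 p k n) (Prod.snd : V p k n × V p k n → V p k n) :=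
  fun j => Algebra.subset_adjoin ⟨(1, j), rfl⟩

lemma mem_comp {n : ℕ} {F : X → V p k n} (hF : Pol A F) {g : V p k n → k} (hg : g ∈ Fun1 p k n) :
    g ∘ F ∈ A := by
  induction hg using Algebra.adjoin_induction with
  | mem g hg => obtain ⟨i, rfl⟩ := hg; exact hF i
  | algebraMap c => exact A.algebraMap_mem c
  | add f g _ _ hf hg => exact A.add_mem hf hg
  | mul f g _ _ hf hg => exact A.mul_mem hf hg

lemma mem_comp2 {n : ℕ} {F G : X → V p k n} (hF : Pol A F) (hG : Pol A G)
    {g : V p k n × V p k n → k} (hg : g ∈ Fun2 p k n) : (fun x => g (F x, G x)) ∈ A := by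
  induction hg using Algebra.adjoin_induction with
  | mem g hg =>
    obtain ⟨⟨j, i⟩, rfl⟩ := hg
    fin_cases j
    · exact hF i
    · exact hG i
  | algebraMap c => exact A.algebraMap_mem c
  | add f g _ _ hf hg => exact A.add_mem hf hg
  | mul f g _ _ hf hg => exact A.mul_mem hf hg

lemma Pol.comp {n m : ℕ} {F : X → V p k n} (hF : Pol A F) {G : V p k n → V p k m}
    (hG : Pol (Fun1 p k n) G) : Pol A fun x => G (F x) :=
  fun j => mem_comp hF (hG j)

lemma Pol.comp₂ {n m : ℕ} {F G : X → V p k n} (hF : Pol A F) (hG : Pol A G)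
    {H : V p k n → V p k n → V p k m} (hH : Pol (Fun2 p k n) fun x => H x.1 x.2) :
    Pol A fun x => H (F x) (G x) :=
  fun j => mem_comp2 hF hG (hH j)

lemma pol_const {m : ℕ} (c : V p k m) : Pol A fun _ : X => c := fun j => A.algebraMap_mem (c.coeff j)

omit hp in
lemma evalInt_mem {σ : Type} (P : MvPolynomial σ ℤ) (f : σ → X → k) (hf : ∀ i, f i ∈ A) :
    MvPolynomial.aeval f P ∈ A := by
  induction P using MvPolynomial.induction_on with
  | C a => rw [MvPolynomial.aeval_C]; exact intCast_mem A a
  | add P Q hP hQ => rw [map_add]; exact A.add_mem hP hQ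
  | mul_X P i hP => rw [map_mul, MvPolynomial.aeval_X]; exact A.mul_mem hP (hf i)

lemma Pol.add {m : ℕ} {F G : X → V p k m} (hF : Pol A F) (hG : Pol A G) :
    Pol A fun x => F x + G x := by
  intro j
  let f : Fin 2 × ℕ → X → k := fun ji x => if h : ji.2 < m then (![F x, G x] ji.1).coeff ⟨ji.2, h⟩ else 0
  have e : (fun x => (F x + G x).coeff j) = MvPolynomial.aeval f (WittVector.wittAdd p (j : ℕ)) := by
    funext x
    have h0 : F x + G x = WittVector.truncate m ((F x).out + (G x).out) := by
      rw [map_add, truncate_out, truncate_out]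
    rw [h0, WittVector.coeff_truncate, WittVector.add_coeff]
    refine Eq.trans ?_ (MvPolynomial.comp_aeval_apply _ (Pi.evalRingHom (fun _ : X => k) x).toIntAlgHom _).symm
    show MvPolynomial.aeval _ _ = MvPolynomial.aeval _ _
    congr 2
    funext ⟨a, b⟩
    fin_cases a <;> simp [f, TruncatedWittVector.out, TruncatedWittVector.coeff]
  rw [e]
  refine evalInt_mem _ f fun ⟨a, b⟩ => ?_
  by_cases h : b < m
  · simp only [f, dif_pos h]
    fin_cases a
    · exact hF _
    · exact hG _
  · simp only [f, dif_neg h]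
    exact A.zero_mem

lemma Pol.neg {m : ℕ} {F : X → V p k m} (hF : Pol A F) : Pol A fun x => -F x := by
  intro j
  let f : Fin 1 × ℕ → X → k := fun ji x => if h : ji.2 < m then (F x).coeff ⟨ji.2, h⟩ else 0
  have e : (fun x => (-F x).coeff j) = MvPolynomial.aeval f (WittVector.wittNeg p (j : ℕ)) := by
    funext x
    have h0 : -F x = WittVector.truncate m (-(F x).out) := by rw [map_neg, truncate_out]
    rw [h0, WittVector.coeff_truncate, WittVector.neg_coeff]
    refine Eq.trans ?_ (MvPolynomial.comp_aeval_apply _ (Pi.evalRingHom (fun _ : X => k) x).toIntAlgHom _).symm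
    show MvPolynomial.aeval _ _ = MvPolynomial.aeval _ _
    congr 2
    funext ⟨a, b⟩
    fin_cases a
    simp [f, TruncatedWittVector.out, TruncatedWittVector.coeff]
  rw [e]
  refine evalInt_mem _ f fun ⟨a, b⟩ => ?_
  by_cases h : b < m
  · simp only [f, dif_pos h]; exact hF _
  · simp only [f, dif_neg h]; exact A.zero_mem

lemma Pol.sub {m : ℕ} {F G : X → V p k m} (hF : Pol A F) (hG : Pol A G) :
    Pol A fun x => F x - G x := by
  simpa only [sub_eq_add_neg] using hF.add hG.neg

lemma pol_val {n m : ℕ} (f : WittGrp.W p n (Spec (CommRingCat.of k)) ⟶ WittGrp.W p m (Spec (CommRingCat.of k))) :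
    Pol (Fun1 p k n) (val p f) := by
  intro j
  have e : (fun v => (val p f v).coeff j) =
      MvPolynomial.aeval (fun i : ULift.{u} (Fin n) => fun v : V p k n => v.coeff i.down) (coordPoly p f j) := by
    funext v
    rw [coeff_val]
    refine Eq.trans ?_ (MvPolynomial.comp_aeval_apply _ (Pi.evalAlgHom k (fun _ : V p k n => k) v) _).symm
    rw [← MvPolynomial.aeval_eq_eval]
    rfl
  rw [e]
  generalize coordPoly p f j = P
  induction P using MvPolynomial.induction_on with
  | C a => rw [MvPolynomial.aeval_C]; exact Subalgebra.algebraMap_mem _ a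
  | add P Q hP hQ => rw [map_add]; exact Subalgebra.add_mem _ hP hQ
  | mul_X P i hP => rw [map_mul, MvPolynomial.aeval_X]; exact Subalgebra.mul_mem _ hP (Pol.coord_mem _)

/-- Every polynomial map of rational points comes from a morphism. -/
theorem exists_hom_of_pol {n m : ℕ} {F : V p k n → V p k m} (hF : Pol (Fun1 p k n) F) :
    ∃ f : WittGrp.W p n (Spec (CommRingCat.of k)) ⟶ WittGrp.W p m (Spec (CommRingCat.of k)),
      ∀ v, val p f v = F v := by
  have hP : ∀ j, ∃ P : MvPolynomial (Fin n) k, MvPolynomial.aeval (fun i => fun v : V p k n => v.coeff i) P =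
      fun v => (F v).coeff j := fun j => by
    have := hF j
    rw [Fun1, Algebra.adjoin_range_eq_range_aeval] at this
    exact this
  choose P hP using hP
  let T := WittGrp.W p n (Spec (CommRingCat.of k))
  let c : Fin m → Γ(T.left, ⊤) := fun j => MvPolynomial.eval₂ (cst k T) (WittGrp.coord p) (P j)
  refine ⟨ofCoeff p c, fun v => TruncatedWittVector.ext fun j => ?_⟩
  rw [val, WittGrp.coeff_truncMap, coeff_pts_ofCoeff]
  show ((Scheme.ΓSpecIso (CommRingCat.of k)).hom.hom.comp (kpt p v).left.appTop.hom)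
    (MvPolynomial.eval₂ (cst k T) (WittGrp.coord p) (P j)) = _
  rw [MvPolynomial.eval₂_comp_left]
  have e := congrFun (hP j) v
  refine Eq.trans ?_ e
  refine Eq.trans ?_ (MvPolynomial.comp_aeval_apply _ (Pi.evalAlgHom k (fun _ : V p k n => k) v) _).symm
  rw [MvPolynomial.aeval_def]
  refine congrArg₂ (fun f g => MvPolynomial.eval₂ f g (P j)) ?_ ?_
  · rw [RingHom.comp_assoc, cst_comp]
    ext a
    show (Scheme.ΓSpecIso (CommRingCat.of k)).hom ((𝟙 (Spec (CommRingCat.of k)) : _).appTop _) = a
    simp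
  · funext i
    show (Scheme.ΓSpecIso (CommRingCat.of k)).hom.hom ((kpt p v).left.appTop (WittGrp.coord p i)) = _
    rw [← WittGrp.coeff_pts, pts_kpt, WittGrp.coeff_truncMap]
    exact congr($((Scheme.ΓSpecIso (CommRingCat.of k)).inv_hom_id) (v.coeff i))

end Groth.GaDual.WittExt
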