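import Groth.Agent.GaDual.WittExt.Scheme
import Groth.Agent.S12182

/-!
The classification of extensions between `W_n` and `W_1`.
-/

universe u

open CategoryTheory CategoryTheory.Limits MonoidalCategory CartesianMonoidalCategory MonObj GrpObj AlgebraicGeometry

namespace Groth.GaDual.WittExt

open Groth.GrpschAbsch WittOp WittEnd WittIsogeny WittSubgroup

variable (p : ℕ) [hp : Fact p.Prime] {k : Type u} [Field k] [CharP k p] [IsAlgClosed k]

local notation "𝕊" => Spec (CommRingCat.of k)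
local notation "𝕎₀" => WittGrp.W p

/-- The defect of `pd ∘ truncate`. -/
noncomputable def defect {n m N : ℕ} (hn : n ≤ N) (hm : m ≤ N) (u : V p k N) : V p k m :=
  dr p hm (u - pd p N (TruncatedWittVector.truncate hn u))

lemma pol_defect {n m N : ℕ} (hn : n ≤ N) (hm : m ≤ N) :
    Pol (Fun1 p k N) (defect p hn hm : V p k N → V p k m) :=
  ((pol_id N).sub ((pol_truncate p hn).comp (pol_pd p N))).comp (pol_dr p hm)

omit [IsAlgClosed k] in
lemma defect_spec {n m N : ℕ} (hn : n ≤ N) (hm : m ≤ N) (h : N - m ≤ n) (u : V p k N) :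
    WittGrp.shift p hm (defect p hn hm u) = u - pd p N (TruncatedWittVector.truncate hn u) :=
  shift_dr p hm fun i hi => zeros_of_truncate p hn (by rw [map_sub, truncate_pd, sub_self]) i (by omega)

omit [IsAlgClosed k] in
lemma defect_add {n m N : ℕ} (hn : n ≤ N) (hm : m ≤ N) (h : N - m ≤ n) {C : V p k n → V p k n → V p k m}
    (hC : ∀ v w, WittGrp.shift p hm (C v w) = pd p N v + pd p N w - pd p N (v + w)) (u w : V p k N) :
    defect p hn hm (u + w) = defect p hn hm u + defect p hn hm w +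
      C (TruncatedWittVector.truncate hn u) (TruncatedWittVector.truncate hn w) := by
  refine shift_injective p hm ?_
  rw [map_add, map_add, defect_spec p hn hm h, defect_spec p hn hm h, defect_spec p hn hm h, hC, map_add]
  abel

omit [IsAlgClosed k] in
lemma defect_shift {n m N : ℕ} (hn : n ≤ N) (hm : m ≤ N) (h : N - m = n) (a : V p k m) :
    defect p hn hm (WittGrp.shift p hm a) = a := by
  rw [defect, truncate_shift_of_le p hm hn h.ge, show pd p N (0 : V p k n) = 0 from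
    TruncatedWittVector.ext fun i => by
      rw [coeff_pd]; split_ifs <;> simp [TruncatedWittVector.coeff_zero], sub_zero, dr_shift]

/-- Push-out: extensions with cocycle `D h + Φ ∘ C` receive `W_N`. -/
theorem exists_hom_push {n m r N : ℕ} (hn : n ≤ N) (hm : m ≤ N) (hN : N - m = n) {E₀ : Over 𝕊}
    [GrpObj E₀] [IsCommMonObj E₀] [Smooth E₀.hom] (X : Ext p n r E₀)
    (φ : 𝕎₀ m 𝕊 ⟶ 𝕎₀ r 𝕊) [IsMonHom φ]
    {f : V p k n → V p k n → V p k r}
    (hf : ∀ v w, X.sv v * X.sv w = X.sv (v + w) * X.iv (f v w))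
    {C : V p k n → V p k n → V p k m}
    (hC : ∀ v w, WittGrp.shift p hm (C v w) = pd p N v + pd p N w - pd p N (v + w))
    {h : V p k n → V p k r} (hh : Pol (Fun1 p k n) h)
    (he : ∀ v w, f v w = D h v w + val p φ (C v w)) :
    ∃ g : 𝕎₀ N 𝕊 ⟶ E₀, IsMonHom g ∧ WittGrp.V p 𝕊 hm ≫ g = φ ≫ X.i ∧ g ≫ X.π = WittGrp.R p 𝕊 hn := by
  let T : V p k N → V p k n := fun u => TruncatedWittVector.truncate hn u
  let α : V p k N → V p k r := fun u => val p φ (defect p hn hm u) - h (T u)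
  have hα : Pol (Fun1 p k N) α :=
    ((pol_defect p hn hm).comp (pol_val φ)).sub ((pol_truncate p hn).comp hh)
  obtain ⟨g, hg, hgπ, hgv⟩ := X.exists_push hn hα hf fun u w => by
    simp only [α, T]
    rw [defect_add p hn hm hN.le hC, val_add, val_add, he, map_add, D]
    abel
  refine ⟨g, hg, ?_, hgπ⟩
  have := (Groth.Agent.S12182.result p k m).1
  have : IsSeparated E₀.hom := Groth.AlgGrp1.isSeparated_grpObj E₀
  refine hom_ext_pt _ _ fun t => ?_
  obtain ⟨a, rfl⟩ := exists_kpt p t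
  have h0 : X.sv 0 * X.iv (-h 0) = 1 := by
    have e : (1 : 𝟙_ (Over 𝕊) ⟶ 𝕎₀ N 𝕊) ≫ g = 1 := MonObj.one_comp g
    rw [← kpt_zero p, hgv, map_zero] at e
    simp only [α, T, map_zero] at e
    rw [show defect p hn hm (0 : V p k N) = 0 by
      rw [← map_zero (WittGrp.shift p hm), defect_shift p hn hm hN]] at e
    rw [show val p φ (0 : V p k m) = 0 by
      have := val_add p φ 0 0
      rw [add_zero] at this
      exact left_eq_add.mp this, zero_sub] at e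
    exact e
  rw [← Category.assoc, ← kpt_val, val_V, hgv]
  simp only [α, T, truncate_shift_of_le p hm hn hN.ge, defect_shift p hn hm hN]
  rw [sub_eq_add_neg, X.iv_add, _root_.mul_left_comm, h0, _root_.mul_one, ← Category.assoc, ← kpt_val]
  rfl

variable {p}

lemma val_opHom_one (l : List k) (x : V p k 1) : val p (opHom p 1 [l]) x = E p l x := val_opHom p _ x

/-- Extensions of `W_n` by `W_1` are push-outs of `W_{n+1}`. -/
theorem exists_push_left {n : ℕ} (hn : 1 ≤ n) {E₀ : Over 𝕊} [GrpObj E₀] [IsCommMonObj E₀] [Smooth E₀.hom]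
    (X : Ext p n 1 E₀) : ∃ φ : 𝕎₀ 1 𝕊 ⟶ 𝕎₀ 1 𝕊, IsMonHom φ ∧
      ∃ g : 𝕎₀ (n + 1) 𝕊 ⟶ E₀, IsMonHom g ∧ WittGrp.V p 𝕊 (Nat.le_add_left 1 n) ≫ g = φ ≫ X.i ∧
        g ≫ X.π = WittGrp.R p 𝕊 (Nat.le_add_right n 1) := by
  obtain ⟨f, hfp, hfc, hf⟩ := X.exists_cocycle
  obtain ⟨n, rfl⟩ := Nat.exists_eq_add_of_le' hn
  obtain ⟨h, l, hh, he⟩ := classify_left p n f hfp hfc
  refine ⟨opHom p 1 [l], inferInstance, exists_hom_push p _ _ (Nat.add_sub_cancel _ 1) X (opHom p 1 [l]) hf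
    (shift_cl p (n + 1)) hh fun v w => ?_⟩
  rw [val_opHom_one, he]

/-- Extensions of `W_n` by `W_1` are pull-backs of `W_{m+1}`. -/
theorem exists_pull_left {n m : ℕ} (hn : 1 ≤ n) (hnm : n ≤ m) {E₀ : Over 𝕊} [GrpObj E₀] [IsCommMonObj E₀]
    [Smooth E₀.hom] (X : Ext p n 1 E₀) : ∃ F : 𝕎₀ n 𝕊 ⟶ 𝕎₀ m 𝕊, IsMonHom F ∧
      ∃ h : E₀ ⟶ 𝕎₀ (m + 1) 𝕊, IsMonHom h ∧ X.i ≫ h = WittGrp.V p 𝕊 (Nat.le_add_left 1 m) ∧
        h ≫ WittGrp.R p 𝕊 (Nat.le_add_right m 1) = X.π ≫ F := by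
  obtain ⟨f, hfp, hfc, hf⟩ := X.exists_cocycle
  obtain ⟨n, rfl⟩ := Nat.exists_eq_add_of_le' hn
  obtain ⟨h, l, hh, he⟩ := classify_left p n f hfp hfc
  have h1 : 1 ≤ n + 1 + 1 := Nat.le_add_left 1 _
  have hT : n + 1 ≤ n + 1 + 1 := Nat.le_add_right _ 1
  obtain ⟨L, hL⟩ := exists_powList (p ^ (n + 1 + 1 - 1)) (pow_pos hp.out.pos _) [l]
  let β : V p k (n + 1) → V p k (n + 1 + 1) := fun v =>
    WittGrp.shift p h1 (h v) + val p (opHom p (n + 1 + 1) L) (pd p _ v)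
  have hβ : Pol (Fun1 p k (n + 1)) β := (hh.comp (pol_shift p h1)).add ((pol_pd p _).comp (pol_val _))
  obtain ⟨g, hg, hgi, hgv⟩ := X.exists_pull h1 hβ hf fun v w => by
    simp only [β, he, D, map_add, map_sub]
    have e := congrArg (val p (opHom p (n + 1 + 1) L)) (sub_eq_iff_eq_add'.1 (shift_cl p (n + 1) v w).symm)
    rw [val_add, val_add, val_opHom p L (WittGrp.shift p h1 _), opT_shift, hL] at e
    simp only [E]
    linear_combination (norm := abel) e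
  have hmn : n + 1 + 1 ≤ m + 1 := Nat.add_le_add_right hnm 1
  have hV : WittGrp.V p 𝕊 hmn ≫ WittGrp.R p 𝕊 (Nat.le_add_right m 1) =
      WittGrp.R p 𝕊 hT ≫ WittGrp.V p 𝕊 hnm := val_ext p fun v => by
    ext i
    rw [val_comp, val_comp, val_V, val_R, val_R, val_V, TruncatedWittVector.coeff_truncate,
      WittGrp.coeff_shift, WittGrp.coeff_shift]
    by_cases hi : m - (n + 1) ≤ (i : ℕ)
    · rw [dif_pos (by simp; omega), dif_pos hi, TruncatedWittVector.coeff_truncate]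
      congr 1
      ext; simp
    · rw [dif_neg (by simp; omega), dif_neg hi]
  have := (Groth.Agent.S12182.result p k (n + 1)).1
  have := isAffineHom_W p (k := k) (n + 1)
  have hR : g ≫ WittGrp.R p 𝕊 hT = X.π ≫ opHom p (n + 1) L := by
    refine hom_ext_pt _ _ fun t => ?_
    obtain ⟨v, a, -, -, rfl⟩ := X.exists_eq t
    rw [← Category.assoc, hgv, ← Category.assoc, (X.coords v a).1, ← kpt_val, ← kpt_val, val_R,
      val_opHom]
    congr 1
    simp only [β, map_add, truncate_shift_of_le p h1 hT (by omega), zero_add, add_zero, val_opHom,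
      opT_truncateLE, truncate_pd]
  refine ⟨opHom p (n + 1) L ≫ WittGrp.V p 𝕊 hnm, inferInstance, g ≫ WittGrp.V p 𝕊 hmn, inferInstance, ?_, ?_⟩
  · rw [← Category.assoc, hgi]
    exact val_ext p fun v => by rw [val_comp, val_V, val_V, val_V, shift_shift]
  · rw [Category.assoc, hV, ← Category.assoc, hR, Category.assoc]

/-- Extensions of `W_1` by `W_n` are pull-backs of `W_{n+1}`. -/
theorem exists_pull_right {n : ℕ} (hn : 1 ≤ n) {E₀ : Over 𝕊} [GrpObj E₀] [IsCommMonObj E₀] [Smooth E₀.hom]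
    (X : Ext p 1 n E₀) : ∃ ψ : 𝕎₀ 1 𝕊 ⟶ 𝕎₀ 1 𝕊, IsMonHom ψ ∧
      ∃ h : E₀ ⟶ 𝕎₀ (n + 1) 𝕊, IsMonHom h ∧ X.i ≫ h = WittGrp.V p 𝕊 (Nat.le_add_right n 1) ∧
        h ≫ WittGrp.R p 𝕊 (Nat.le_add_left 1 n) = X.π ≫ ψ := by
  obtain ⟨f, hfp, hfc, hf⟩ := X.exists_cocycle
  obtain ⟨n, rfl⟩ := Nat.exists_eq_add_of_le' hn
  obtain ⟨H, χ, hH, he⟩ := classify_right p n f hfp hfc
  let N := n + 1 + 1
  have hm : n + 1 ≤ N := Nat.le_add_right _ 1
  let β : V p k 1 → V p k N := fun a => WittGrp.shift p hm (H a) + pd p N (E p χ a)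
  have hβ : Pol (Fun1 p k 1) β := (hH.comp (pol_shift p hm)).add ((pol_E p χ).comp (pol_pd p N))
  obtain ⟨g, hg, hgi, hgv⟩ := X.exists_pull hm hβ hf fun v w => by
    simp only [β, he, D, map_add, map_sub, N]
    rw [shift_tl, E_add]
    abel
  refine ⟨opHom p 1 [χ], inferInstance, g, hg, hgi, ?_⟩
  have := isAffineHom_W p (k := k) 1
  refine hom_ext_pt _ _ fun t => ?_
  obtain ⟨v, a, -, -, rfl⟩ := X.exists_eq t
  rw [← Category.assoc, hgv, ← Category.assoc, (X.coords v a).1, ← kpt_val, ← kpt_val, val_R, val_opHom_one]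
  congr 1
  simp only [β, N, map_add, truncate_shift_of_le p _ (Nat.le_add_left 1 (n + 1)) (by omega : 1 ≤ n + 1 + 1 - (n + 1)),
    zero_add, add_zero, truncate_pd]

/-- Extensions of `W_1` by `W_n` are push-outs of `W_{m+1}`. -/
theorem exists_push_right {n m : ℕ} (hn : 1 ≤ n) (hnm : n ≤ m) {E₀ : Over 𝕊} [GrpObj E₀] [IsCommMonObj E₀]
    [Smooth E₀.hom] (X : Ext p 1 n E₀) : ∃ G : 𝕎₀ m 𝕊 ⟶ 𝕎₀ n 𝕊, IsMonHom G ∧
      ∃ h : 𝕎₀ (m + 1) 𝕊 ⟶ E₀, IsMonHom h ∧ WittGrp.V p 𝕊 (Nat.le_add_right m 1) ≫ h = G ≫ X.i ∧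
        h ≫ X.π = WittGrp.R p 𝕊 (Nat.le_add_left 1 m) := by
  obtain ⟨f, hfp, hfc, hf⟩ := X.exists_cocycle
  obtain ⟨n, rfl⟩ := Nat.exists_eq_add_of_le' hn
  obtain ⟨H, χ, hH, he⟩ := classify_right p n f hfp hfc
  let N := n + 1 + 1
  have hm : n + 1 ≤ N := Nat.le_add_right _ 1
  have h1 : 1 ≤ N := Nat.le_add_left 1 (n + 1)
  let Ψ := opHom p N [χ]
  let g₀ := opHom p (n + 1) (powList (p ^ (N - (n + 1))) [χ])
  let q : V p k 1 → V p k (n + 1) := fun a => dr p hm (val p Ψ (pd p N a) - pd p N (E p χ a))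
  have hq : ∀ a, WittGrp.shift p hm (q a) = val p Ψ (pd p N a) - pd p N (E p χ a) := fun a => shift_dr p hm (by
    rw [show N - (n + 1) = 1 from Nat.add_sub_cancel_left _ 1]
    refine zeros_of_truncate p h1 ?_
    rw [map_sub, val_opHom, opT_truncateLE, truncate_pd, truncate_pd]
    exact sub_self _)
  have hqp : Pol (Fun1 p k 1) q :=
    (((pol_pd p N).comp (pol_val Ψ)).sub ((pol_E p χ).comp (pol_pd p N))).comp (pol_dr p hm)
  have htl : ∀ a b, tl p (n + 1) (E p χ a) (E p χ b) = val p g₀ (tl p (n + 1) a b) - D q a b := by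
    intro a b
    refine shift_injective p hm ?_
    simp only [D, map_sub, map_add, hq]
    rw [val_opHom, ← opT_shift, ← val_opHom p]
    have e := congrArg (val p Ψ) (sub_eq_iff_eq_add'.1 (shift_tl p (n + 1) a b).symm)
    rw [val_add, val_add] at e
    rw [shift_tl, ← E_add p χ a b]
    linear_combination (norm := abel) e
  obtain ⟨g, hg, hgV, hgπ⟩ := exists_hom_push p h1 hm (Nat.add_sub_cancel_left _ 1) X g₀ hf
    (shift_tl p (n + 1)) (hH.sub hqp) fun v w => by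
      rw [he, htl]
      simp only [D]
      abel
  have hmn : N ≤ m + 1 := Nat.add_le_add_right hnm 1
  have hV : WittGrp.V p 𝕊 (Nat.le_add_right m 1) ≫ WittGrp.R p 𝕊 hmn =
      WittGrp.R p 𝕊 hnm ≫ WittGrp.V p 𝕊 hm := val_ext p fun v => by
    ext i
    rw [val_comp, val_comp, val_V, val_R, val_R, val_V, TruncatedWittVector.coeff_truncate,
      WittGrp.coeff_shift, WittGrp.coeff_shift]
    by_cases hi : 1 ≤ (i : ℕ)
    · rw [dif_pos (by simp; omega), dif_pos (by simp [N]; omega), TruncatedWittVector.coeff_truncate]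
      congr 1
      ext; simp [N]
    · rw [dif_neg (by simp only [Fin.val_castLE]; omega), dif_neg (by simp only [N]; omega)]
  refine ⟨WittGrp.R p 𝕊 hnm ≫ g₀, inferInstance, WittGrp.R p 𝕊 hmn ≫ g, inferInstance, ?_, ?_⟩
  · rw [← Category.assoc, hV, Category.assoc, hgV, Category.assoc]
  · rw [Category.assoc, hgπ]
    exact val_ext p fun v => TruncatedWittVector.ext fun i => by
      simp only [val_comp, val_R, TruncatedWittVector.coeff_truncate]
      congr 1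

/-- The push-out endomorphism is unique. -/
theorem push_unique {n : ℕ} (hn : 1 ≤ n) {E₀ : Over 𝕊} [GrpObj E₀] [IsCommMonObj E₀]
    {i : 𝕎₀ 1 𝕊 ⟶ E₀} [IsMonHom i] {π : E₀ ⟶ 𝕎₀ n 𝕊} [IsMonHom π] (hker : AlgGrp.IsKernel i π)
    {φ φ' : 𝕎₀ 1 𝕊 ⟶ 𝕎₀ 1 𝕊}
    {g g' : 𝕎₀ (n + 1) 𝕊 ⟶ E₀} [IsMonHom g] [IsMonHom g']
    (h1 : WittGrp.V p 𝕊 (Nat.le_add_left 1 n) ≫ g = φ ≫ i) (h2 : g ≫ π = WittGrp.R p 𝕊 (Nat.le_add_right n 1))
    (h1' : WittGrp.V p 𝕊 (Nat.le_add_left 1 n) ≫ g' = φ' ≫ i)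
    (h2' : g' ≫ π = WittGrp.R p 𝕊 (Nat.le_add_right n 1)) : φ = φ' := by
  have := Groth.AlgGrp1.IsKernel.mono hker
  have := isMonHom_div g g'
  obtain ⟨e, he⟩ := Groth.AlgGrp1.IsKernel.exists_lift hker (g / g')
    (by rw [GrpObj.div_comp, h2, h2', div_self'])
  have hem : IsMonHom e := Groth.AlgGrp1.isMonHom_of_points e fun T u v => by
    rw [← cancel_mono i, MonObj.mul_comp (u ≫ e), Category.assoc, Category.assoc, Category.assoc, he,
      MonObj.mul_comp u v (g / g')]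
  obtain ⟨L, hL⟩ := exists_R_opHom (Nat.le_add_left 1 n) e
  have hVR : WittGrp.V p 𝕊 (Nat.le_add_left 1 n) ≫ WittGrp.R p 𝕊 (Nat.le_add_left 1 n) = 1 :=
    val_ext p fun v => by rw [val_comp, val_V, val_R, val_one, truncate_shift_of_le p _ _ (by omega)]
  have hz : (φ ≫ i) / (φ' ≫ i) = 1 := by
    rw [← h1, ← h1', ← GrpObj.comp_div, ← he, hL]
    simp only [← Category.assoc, hVR, MonObj.one_comp]
  exact (cancel_mono i).1 (div_eq_one.1 hz)

/-- The pull-back endomorphism is unique. -/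
theorem pull_unique {n : ℕ} (hn : 1 ≤ n) {E₀ : Over 𝕊} [GrpObj E₀] [IsCommMonObj E₀] [Smooth E₀.hom]
    (X : Ext p 1 n E₀) {ψ ψ' : 𝕎₀ 1 𝕊 ⟶ 𝕎₀ 1 𝕊} {h h' : E₀ ⟶ 𝕎₀ (n + 1) 𝕊} [IsMonHom h] [IsMonHom h']
    (h1 : X.i ≫ h = WittGrp.V p 𝕊 (Nat.le_add_right n 1))
    (h2 : h ≫ WittGrp.R p 𝕊 (Nat.le_add_left 1 n) = X.π ≫ ψ)
    (h1' : X.i ≫ h' = WittGrp.V p 𝕊 (Nat.le_add_right n 1))
    (h2' : h' ≫ WittGrp.R p 𝕊 (Nat.le_add_left 1 n) = X.π ≫ ψ') : ψ = ψ' := by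
  have := isMonHom_div h h'
  have := (Groth.Agent.S12182.result p k 1).1
  have := isAffineHom_W p (k := k) (n + 1)
  set d := h / h' with hd
  have hid : X.i ≫ d = 1 := by rw [hd, GrpObj.comp_div, h1, h1', div_self']
  have hdv : ∀ v a, (X.sv v * X.iv a) ≫ d = X.sv v ≫ d := fun v a => by
    rw [MonObj.mul_comp, show X.iv a ≫ d = 1 by rw [Ext.iv, Category.assoc, hid, MonObj.comp_one],
      _root_.mul_one]
  obtain ⟨f, -, -, hf⟩ := X.exists_cocycle
  let e := X.s ≫ d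
  have : IsMonHom e := isMonHom_of_pt e fun x y => by
    obtain ⟨v, rfl⟩ := exists_kpt p x
    obtain ⟨w, rfl⟩ := exists_kpt p y
    rw [← kpt_add]
    simp only [e, ← Category.assoc]
    show X.sv (v + w) ≫ d = (X.sv v ≫ d) * (X.sv w ≫ d)
    rw [← MonObj.mul_comp, hf, hdv]
  obtain ⟨L, hL⟩ := exists_opHom_V (Nat.le_add_left 1 n) e
  have hVR : WittGrp.V p 𝕊 (Nat.le_add_left 1 n) ≫ WittGrp.R p 𝕊 (Nat.le_add_left 1 n) = 1 :=
    val_ext p fun v => by rw [val_comp, val_V, val_R, val_one, truncate_shift_of_le p _ _ (by omega)]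
  have heR : e ≫ WittGrp.R p 𝕊 (Nat.le_add_left 1 n) = 1 := by
    rw [hL, Category.assoc, hVR, MonObj.comp_one]
  have hzero : ψ / ψ' = 1 := by
    have : e ≫ WittGrp.R p 𝕊 (Nat.le_add_left 1 n) = ψ / ψ' := by
      rw [Category.assoc, hd, GrpObj.div_comp, h2, h2', ← GrpObj.comp_div, ← Category.assoc, X.s_π,
        Category.id_comp]
    rw [← this, heR]
  exact div_eq_one.1 hzero

end Groth.GaDual.WittExt
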