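import Groth.Agent.GaDual.WittExt.Class2
import Groth.Agent.GaDual.GaLift
import Groth.Agent.AlgGrp1.Points
import Groth.Agent.GrpschAbsch.WittBasic

/-!
Extensions of Witt groups through their cocycles.
-/

universe u

open CategoryTheory CategoryTheory.Limits MonoidalCategory CartesianMonoidalCategory MonObj GrpObj AlgebraicGeometry

namespace Groth.GaDual.WittExt

open Groth.GrpschAbsch WittOp WittEnd WittIsogeny WittSubgroup

variable (p : ℕ) [hp : Fact p.Prime] {k : Type u} [Field k]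

local notation "𝕊" => Spec (CommRingCat.of k)
local notation "𝕎₀" => WittGrp.W p

/-- Morphisms from a smooth scheme to a separated one agreeing on rational points are equal. -/
theorem hom_ext_pt [IsAlgClosed k] {T X : Over 𝕊} [Smooth T.hom] [IsSeparated X.hom] (f g : T ⟶ X)
    (h : ∀ t : 𝟙_ (Over 𝕊) ⟶ T, t ≫ f = t ≫ g) : f = g := by
  have := Groth.AlgGrp1.geometricallyReduced_of_smooth_hom T
  refine Groth.AlgGrp1.eq_of_sepClosed_points k f g ?_
  have gen : ∀ a : 𝕊 ⟶ 𝕊, a = 𝟙 𝕊 → ∀ t : Over.mk a ⟶ T, t ≫ f = t ≫ g := by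
    rintro _ rfl t
    exact h t
  exact gen (Spec.map (CommRingCat.ofHom (algebraMap k k))) (Spec.map_id (CommRingCat.of k))

lemma smooth_tensor (G H : Over 𝕊) [Smooth G.hom] [Smooth H.hom] : Smooth (G ⊗ H).hom :=
  inferInstanceAs (Smooth (pullback.fst G.hom H.hom ≫ G.hom))

/-- A morphism multiplicative on rational points is a homomorphism. -/
theorem isMonHom_of_pt [IsAlgClosed k] {G H : Over 𝕊} [GrpObj G] [GrpObj H] [Smooth G.hom]
    [IsSeparated H.hom] (g : G ⟶ H)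
    (h : ∀ a b : 𝟙_ (Over 𝕊) ⟶ G, (a * b) ≫ g = (a ≫ g) * (b ≫ g)) : IsMonHom g := by
  have := smooth_tensor G G
  have key : (fst G G * snd G G) ≫ g = (fst G G ≫ g) * (snd G G ≫ g) := hom_ext_pt _ _ fun t => by
    rw [← Category.assoc, MonObj.comp_mul, h, MonObj.comp_mul, Category.assoc, Category.assoc]
  refine Groth.AlgGrp1.isMonHom_of_points g fun T u v => ?_
  have := congrArg (lift u v ≫ ·) key
  simp only [← Category.assoc, MonObj.comp_mul, lift_fst, lift_snd] at this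
  exact this

omit hp in
lemma isMonHom_div {G H : Over 𝕊} [GrpObj G] [GrpObj H] [IsCommMonObj H] (f g : G ⟶ H) [IsMonHom f]
    [IsMonHom g] : IsMonHom (f / g) :=
  Groth.AlgGrp1.isMonHom_of_points _ fun T u v => by
    rw [GrpObj.comp_div, GrpObj.comp_div, GrpObj.comp_div, MonObj.mul_comp u v f, MonObj.mul_comp u v g,
      mul_div_mul_comm]

variable [CharP k p] [IsAlgClosed k]

/-- An extension of `W_n` by `W_m`. -/
structure Ext (n m : ℕ) (E : Over 𝕊) [GrpObj E] where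
  /-- the inclusion -/
  i : 𝕎₀ m 𝕊 ⟶ E
  /-- the projection -/
  π : E ⟶ 𝕎₀ n 𝕊
  mon_i : IsMonHom i
  mon_π : IsMonHom π
  ker : AlgGrp.IsKernel i π
  /-- a section -/
  s : 𝕎₀ n 𝕊 ⟶ E
  s_π : s ≫ π = 𝟙 _

/-- Extensions have sections. -/
theorem exists_ext (n m : ℕ) (E : Over 𝕊) [GrpObj E] [IsCommMonObj E] [Smooth E.hom] [QuasiCompact E.hom]
    (i : 𝕎₀ m 𝕊 ⟶ E) [hi : IsMonHom i] (π : E ⟶ 𝕎₀ n 𝕊) [hπ : IsMonHom π] [Surjective π.left] [Flat π.left]
    (hker : AlgGrp.IsKernel i π) : ∃ X : Ext p n m E, X.i = i ∧ X.π = π := by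
  have := WittIsogeny.locallyOfFiniteType_W p (k := k) n
  have := WittIsogeny.isAffineHom_W p (k := k) n
  have : IsAffine (𝕎₀ n 𝕊).left := isAffine_of_isAffineHom (𝕎₀ n 𝕊).hom
  have hq : Groth.AlgGrp1.IsCover π := Groth.AlgGrp1.isCover π
  have : QuasiCompact (π.left ≫ (𝕎₀ n 𝕊).hom) := by rw [Over.w]; infer_instance
  have := QuasiCompact.of_comp π.left (𝕎₀ n 𝕊).hom
  let t := (𝕎₀ n 𝕊).left.isoSpec.inv ≫ (𝕎₀ n 𝕊).hom
  let y : Over.mk t ⟶ 𝕎₀ n 𝕊 := Over.homMk (𝕎₀ n 𝕊).left.isoSpec.inv rfl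
  let y' : 𝕎₀ n 𝕊 ⟶ Over.mk t := Over.homMk (𝕎₀ n 𝕊).left.isoSpec.hom (by
    show _ ≫ t = _
    rw [Iso.hom_inv_id_assoc])
  obtain ⟨x, hx⟩ := Groth.GaDual.GaLift.exists_lift_spec π i t hq hker y
  refine ⟨⟨i, π, hi, hπ, hker, y' ≫ x, ?_⟩, rfl, rfl⟩
  rw [Category.assoc, hx]
  exact Over.OverMorphism.ext (Iso.hom_inv_id _)

variable {p}

section Coordinates

lemma Ext.i_π {n m : ℕ} {E : Over 𝕊} [GrpObj E] [IsCommMonObj E]
    (X : Ext p n m E) : X.i ≫ X.π = 1 := Groth.AlgGrp1.IsKernel.comp_eq_one X.ker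

/-- The section on rational points. -/
noncomputable def Ext.sv {n m : ℕ} {E : Over 𝕊} [GrpObj E] [IsCommMonObj E]
    (X : Ext p n m E) (v : V p k n) : 𝟙_ (Over 𝕊) ⟶ E := kpt p v ≫ X.s

/-- The inclusion on rational points. -/
noncomputable def Ext.iv {n m : ℕ} {E : Over 𝕊} [GrpObj E] [IsCommMonObj E]
    (X : Ext p n m E) (a : V p k m) : 𝟙_ (Over 𝕊) ⟶ E := kpt p a ≫ X.i

lemma Ext.iv_add {n m : ℕ} {E : Over 𝕊} [GrpObj E] [IsCommMonObj E]
    (X : Ext p n m E) (a b : V p k m) : X.iv (a + b) = X.iv a * X.iv b := by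
  have := X.mon_i
  rw [iv, kpt_add, MonObj.mul_comp]
  rfl

lemma Ext.iv_zero {n m : ℕ} {E : Over 𝕊} [GrpObj E] [IsCommMonObj E]
    (X : Ext p n m E) : X.iv 0 = 1 := by
  have := X.mon_i
  rw [iv, kpt_zero, MonObj.one_comp]

lemma Ext.iv_injective {n m : ℕ} {E : Over 𝕊} [GrpObj E] [IsCommMonObj E]
    (X : Ext p n m E) : Function.Injective X.iv := fun a b h => by
  have := Groth.AlgGrp1.IsKernel.mono X.ker
  exact kpt_injective p ((cancel_mono X.i).1 h)

lemma Ext.sv_π {n m : ℕ} {E : Over 𝕊} [GrpObj E] [IsCommMonObj E]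
    (X : Ext p n m E) (v : V p k n) : X.sv v ≫ X.π = kpt p v := by
  rw [sv, Category.assoc, X.s_π, Category.comp_id]

lemma Ext.iv_π {n m : ℕ} {E : Over 𝕊} [GrpObj E] [IsCommMonObj E]
    (X : Ext p n m E) (a : V p k m) : X.iv a ≫ X.π = 1 := by
  rw [iv, Category.assoc, X.i_π, MonObj.comp_one]

/-- The retraction. -/
noncomputable def Ext.r {n m : ℕ} {E : Over 𝕊} [GrpObj E] [IsCommMonObj E]
    (X : Ext p n m E) : E ⟶ 𝕎₀ m 𝕊 :=
  X.ker.lift (𝟙 E / (X.π ≫ X.s)) (toUnit E) (by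
    have := X.mon_π
    rw [GrpObj.div_comp, Category.id_comp, Category.assoc, X.s_π, Category.comp_id, div_self']
    rfl)

lemma Ext.r_i {n m : ℕ} {E : Over 𝕊} [GrpObj E] [IsCommMonObj E]
    (X : Ext p n m E) : X.r ≫ X.i = 𝟙 E / (X.π ≫ X.s) := X.ker.lift_fst _ _ _

/-- Every rational point is a product. -/
lemma Ext.exists_eq {n m : ℕ} {E : Over 𝕊} [GrpObj E] [IsCommMonObj E]
    (X : Ext p n m E) (e : 𝟙_ (Over 𝕊) ⟶ E) :
    ∃ v a, kpt p v = e ≫ X.π ∧ kpt p a = e ≫ X.r ∧ e = X.sv v * X.iv a := by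
  obtain ⟨v, hv⟩ := exists_kpt p (e ≫ X.π)
  obtain ⟨a, ha⟩ := exists_kpt p (e ≫ X.r)
  refine ⟨v, a, hv, ha, ?_⟩
  rw [sv, iv, hv, ha, Category.assoc, Category.assoc, X.r_i, GrpObj.comp_div, Category.comp_id,
    mul_div_cancel]

/-- The coordinates of a product. -/
lemma Ext.coords {n m : ℕ} {E : Over 𝕊} [GrpObj E] [IsCommMonObj E]
    (X : Ext p n m E) (v : V p k n) (a : V p k m) :
    (X.sv v * X.iv a) ≫ X.π = kpt p v ∧ (X.sv v * X.iv a) ≫ X.r = kpt p a := by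
  have := X.mon_π
  have := Groth.AlgGrp1.IsKernel.mono X.ker
  have h1 : (X.sv v * X.iv a) ≫ X.π = kpt p v := by
    rw [MonObj.mul_comp, sv_π, iv_π, _root_.mul_one]
  refine ⟨h1, (cancel_mono X.i).1 ?_⟩
  rw [Category.assoc, X.r_i, GrpObj.comp_div, Category.comp_id, ← Category.assoc, h1]
  exact _root_.mul_div_cancel_left _ _

/-- The cocycle of an extension with a section is polynomial and symmetric. -/
theorem Ext.exists_cocycle {n m : ℕ} {E : Over 𝕊} [GrpObj E] [IsCommMonObj E]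
    (X : Ext p n m E) :
    ∃ f : V p k n → V p k n → V p k m, (Pol (Fun2 p k n) fun x => f x.1 x.2) ∧ IsCoc f ∧
      ∀ v w, X.sv v * X.sv w = X.sv (v + w) * X.iv (f v w) := by
  have := X.mon_π
  let W₀ := 𝕎₀ n 𝕊
  let d : W₀ ⊗ W₀ ⟶ E := (fst W₀ W₀ ≫ X.s) * (snd W₀ W₀ ≫ X.s) / ((fst W₀ W₀ * snd W₀ W₀) ≫ X.s)
  have hd : d ≫ X.π = 1 := by
    simp only [d, GrpObj.div_comp, MonObj.mul_comp, Category.assoc, X.s_π, Category.comp_id, div_self']
  obtain ⟨F, hF⟩ := Groth.AlgGrp1.IsKernel.exists_lift X.ker d hd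
  let take : 𝕎₀ (n + n) 𝕊 ⟶ W₀ := ofCoeff p fun i =>
    (some (⟨(i : ℕ), by omega⟩ : Fin (n + n))).elim 0 (WittGrp.coord p)
  let q : 𝕎₀ (n + n) 𝕊 ⟶ W₀ ⊗ W₀ := lift take (drop p (Nat.le_add_right n n))
  let app : V p k n × V p k n → V p k (n + n) := fun x => TruncatedWittVector.mk p fun i =>
    if h : (i : ℕ) < n then x.1.coeff ⟨i, h⟩ else x.2.coeff ⟨(i : ℕ) - n, by omega⟩
  let f : V p k n → V p k n → V p k m := fun v w => val p (q ≫ F) (app (v, w))
  have happ : Pol (Fun2 p k n) app := by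
    intro j
    by_cases h : (j : ℕ) < n
    · simp only [app, TruncatedWittVector.coeff_mk, dif_pos h]; exact pol_fst n _
    · simp only [app, TruncatedWittVector.coeff_mk, dif_neg h]; exact pol_snd n _
  have hkey : ∀ v w, X.iv (f v w) = X.sv v * X.sv w / X.sv (v + w) := by
    intro v w
    have h1 : kpt p (app (v, w)) ≫ take = kpt p v := by
      rw [← kpt_val]
      congr 1
      ext i
      rw [coeff_val_ofCoeff_coord]
      simp [app]
    have h2 : kpt p (app (v, w)) ≫ drop p (Nat.le_add_right n n) = kpt p w := by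
      rw [← kpt_val]
      congr 1
      ext i
      rw [coeff_val_drop]
      simp [app]
    have h3 : kpt p (app (v, w)) ≫ q = lift (kpt p v) (kpt p w) := by
      rw [comp_lift, h1, h2]
    rw [Ext.iv, kpt_val, Category.assoc, Category.assoc, hF, ← Category.assoc, h3]
    have e1 : lift (kpt p v) (kpt p w) ≫ fst W₀ W₀ = kpt p v := lift_fst _ _
    have e2 : lift (kpt p v) (kpt p w) ≫ snd W₀ W₀ = kpt p w := lift_snd _ _
    simp only [d, GrpObj.comp_div, MonObj.comp_mul, ← Category.assoc, e1, e2, Ext.sv, kpt_add]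
  refine ⟨f, happ.comp (pol_val _), ⟨fun v w => X.iv_injective ?_, fun a b c => X.iv_injective ?_⟩,
    fun v w => by rw [hkey, mul_div_cancel]⟩
  · rw [hkey, hkey, add_comm w v, _root_.mul_comm]
  · rw [Ext.iv_add, Ext.iv_add, hkey, hkey, hkey, hkey, add_assoc]
    generalize X.sv (a + (b + c)) = z
    generalize X.sv (a + b) = y
    generalize X.sv (b + c) = x
    rw [div_mul_div_comm, div_mul_div_comm, div_eq_div_iff_mul_eq_mul]
    simp only [_root_.mul_comm, _root_.mul_left_comm, _root_.mul_assoc]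

end Coordinates

section Maps

/-- A homomorphism out of `W_N` into an extension. -/
theorem Ext.exists_push {n m N : ℕ} {E : Over 𝕊} [GrpObj E] [IsCommMonObj E] [Smooth E.hom]
    (X : Ext p n m E) (hn : n ≤ N) {α : V p k N → V p k m}
    (hα : Pol (Fun1 p k N) α) {f : V p k n → V p k n → V p k m}
    (hf : ∀ v w, X.sv v * X.sv w = X.sv (v + w) * X.iv (f v w))
    (hcomp : ∀ u w, α (u + w) =
      α u + α w + f (TruncatedWittVector.truncate hn u) (TruncatedWittVector.truncate hn w)) :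
    ∃ g : 𝕎₀ N 𝕊 ⟶ E, IsMonHom g ∧ g ≫ X.π = WittGrp.R p 𝕊 hn ∧
      ∀ u, kpt p u ≫ g = X.sv (TruncatedWittVector.truncate hn u) * X.iv (α u) := by
  obtain ⟨a, ha⟩ := exists_hom_of_pol hα
  have := X.mon_π
  have : IsSeparated E.hom := Groth.AlgGrp1.isSeparated_grpObj E
  have := (Groth.Agent.S12182.result p k N).1
  let g : 𝕎₀ N 𝕊 ⟶ E := (WittGrp.R p 𝕊 hn ≫ X.s) * (a ≫ X.i)
  have hg : ∀ u, kpt p u ≫ g = X.sv (TruncatedWittVector.truncate hn u) * X.iv (α u) := fun u => by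
    rw [MonObj.comp_mul, ← Category.assoc, ← Category.assoc, ← kpt_val, ← kpt_val, val_R, ha]
    rfl
  refine ⟨g, isMonHom_of_pt g fun x y => ?_, ?_, hg⟩
  · obtain ⟨u, rfl⟩ := exists_kpt p x
    obtain ⟨w, rfl⟩ := exists_kpt p y
    rw [← kpt_add, hg, hg, hg, hcomp, X.iv_add, X.iv_add, map_add, _root_.mul_mul_mul_comm, hf]
    simp only [_root_.mul_comm, _root_.mul_left_comm, _root_.mul_assoc]
  · rw [MonObj.mul_comp, Category.assoc, Category.assoc, X.s_π, Category.comp_id, X.i_π,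
      MonObj.comp_one, _root_.mul_one]

/-- A homomorphism out of an extension. -/
theorem Ext.exists_pull {n m N : ℕ} {E : Over 𝕊} [GrpObj E] [IsCommMonObj E] [Smooth E.hom]
    (X : Ext p n m E) (hm : m ≤ N) {β : V p k n → V p k N}
    (hβ : Pol (Fun1 p k n) β) {f : V p k n → V p k n → V p k m}
    (hf : ∀ v w, X.sv v * X.sv w = X.sv (v + w) * X.iv (f v w))
    (hcomp : ∀ v w, β v + β w = β (v + w) + WittGrp.shift p hm (f v w)) :
    ∃ h : E ⟶ 𝕎₀ N 𝕊, IsMonHom h ∧ X.i ≫ h = WittGrp.V p 𝕊 hm ∧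
      ∀ v a, (X.sv v * X.iv a) ≫ h = kpt p (β v + WittGrp.shift p hm a) := by
  obtain ⟨b, hb⟩ := exists_hom_of_pol hβ
  have := X.mon_π
  have := WittIsogeny.isAffineHom_W p (k := k) N
  have := (Groth.Agent.S12182.result p k m).1
  let h : E ⟶ 𝕎₀ N 𝕊 := (X.π ≫ b) * (X.r ≫ WittGrp.V p 𝕊 hm)
  have hh : ∀ v a, (X.sv v * X.iv a) ≫ h = kpt p (β v + WittGrp.shift p hm a) := fun v a => by
    rw [MonObj.comp_mul, ← Category.assoc, ← Category.assoc, (X.coords v a).1, (X.coords v a).2,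
      ← kpt_val, ← kpt_val, hb, val_V, kpt_add]
  refine ⟨h, isMonHom_of_pt h fun x y => ?_, hom_ext_pt _ _ fun t => ?_, hh⟩
  · obtain ⟨v, a, -, -, rfl⟩ := X.exists_eq x
    obtain ⟨w, c, -, -, rfl⟩ := X.exists_eq y
    rw [_root_.mul_mul_mul_comm, hf, ← X.iv_add, _root_.mul_assoc, ← X.iv_add, hh, hh, hh, ← kpt_add]
    congr 1
    rw [map_add, map_add, _root_.add_add_add_comm (β v), hcomp]
    abel
  · obtain ⟨a, rfl⟩ := exists_kpt p t
    have h0 : X.iv a = X.sv 0 * X.iv (a - f 0 0) := by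
      have e := hf 0 0
      rw [add_zero] at e
      rw [mul_left_cancel e, ← X.iv_add, add_sub_cancel]
    have hb0 : β 0 = WittGrp.shift p hm (f 0 0) := by
      have e := hcomp 0 0
      rw [add_zero] at e
      exact add_left_cancel e
    rw [← Category.assoc, show kpt p a ≫ X.i = X.iv a from rfl, h0, hh, hb0, ← map_add,
      add_sub_cancel, ← kpt_val, val_V]

end Maps

end Groth.GaDual.WittExt
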